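import Groth.Agent.L08.UL.Hopf
import Groth.Prelude.Def_CartDual
import Mathlib.Algebra.CharP.Algebra
import Mathlib.Algebra.CharP.Lemmas
import Mathlib.RingTheory.Derivation.Lie

/-!
# The height one group of a restricted Lie algebra
-/

universe u v w

open TensorProduct WithConv

noncomputable section

namespace Groth.L08.UL

theorem prod_ofFn_sum {R : Type w} [Semiring R] {m : ℕ} :
    ∀ {n : ℕ} (F : Fin n → Fin m → R),
      (List.ofFn fun i => ∑ j, F i j).prod = ∑ g : Fin n → Fin m, (List.ofFn fun i => F i (g i)).prod := by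
  intro n
  induction n with
  | zero => intro F; simp
  | succ n ih =>
    intro F
    rw [List.ofFn_succ, List.prod_cons, ih, Finset.sum_mul, ← (Fin.consEquiv fun _ => Fin m).sum_comp,
      Fintype.sum_prod_type]
    refine Finset.sum_congr rfl fun j _ => ?_
    rw [Finset.mul_sum]
    refine Finset.sum_congr rfl fun g _ => ?_
    simp [List.ofFn_succ, Fin.consEquiv]

theorem prod_ofFn_tmul {k : Type u} [CommRing k] {R : Type w} [Ring R] [Algebra k R] :
    ∀ {n : ℕ} (a : Fin n → k) (x y : Fin n → R),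
      (List.ofFn fun i => a i • (x i ⊗ₜ[k] y i)).prod = (∏ i, a i) • ((List.ofFn x).prod ⊗ₜ[k] (List.ofFn y).prod) := by
  intro n
  induction n with
  | zero => intro a x y; simp [Algebra.TensorProduct.one_def]
  | succ n ih =>
    intro a x y
    rw [List.ofFn_succ, List.prod_cons, ih, List.ofFn_succ, List.ofFn_succ, List.prod_cons, List.prod_cons,
      Fin.prod_univ_succ, smul_mul_smul_comm, Algebra.TensorProduct.tmul_mul_tmul]

variable {k : Type u} [CommRing k] {p : ℕ} [hp : Fact p.Prime] [CharP k p]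
  {L : Type v} [LieRing L] [LieAlgebra k L] (φ : _root_.PLie.PMap k p L) {n : ℕ} (b : Module.Basis (Fin n) k L)

/-- Truncated subtraction of exponents. -/
def sub (c g : Fin n → Fin p) : Fin n → Fin p := fun i => ⟨(c i : ℕ) - g i, lt_of_le_of_lt (Nat.sub_le _ _) (c i).2⟩

theorem mono_ofFn (c : Fin n → Fin p) : mono φ b c = (List.ofFn fun i => iota φ (b i) ^ (c i : ℕ)).prod := by
  rw [mono, List.ofFn_eq_map]

theorem comul_mono (c : Fin n → Fin p) :
    comulHom φ (mono φ b c) =
      ∑ g : Fin n → Fin p, (∏ i, (((c i : ℕ).choose (g i) : ℕ) : k)) • (mono φ b g ⊗ₜ[k] mono φ b (sub c g)) := by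
  have hi : ∀ i, comulHom φ (iota φ (b i) ^ (c i : ℕ)) = ∑ j : Fin p,
      (((c i : ℕ).choose j : ℕ) : k) • ((iota φ (b i) ^ (j : ℕ)) ⊗ₜ[k] (iota φ (b i) ^ ((c i : ℕ) - j))) := by
    intro i
    have hc : Commute (iota φ (b i) ⊗ₜ[k] (1 : UR φ)) ((1 : UR φ) ⊗ₜ[k] iota φ (b i)) := by
      simp [Commute, SemiconjBy]
    rw [map_pow, comulHom_iota, hc.add_pow, Fin.sum_univ_eq_sum_range (fun j =>
      (((c i : ℕ).choose j : ℕ) : k) • ((iota φ (b i) ^ j) ⊗ₜ[k] (iota φ (b i) ^ ((c i : ℕ) - j))))]
    rw [← Finset.sum_subset (Finset.range_subset_range.2 (Nat.succ_le_of_lt (c i).2))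
      (fun j _ hj => by
        rw [Nat.choose_eq_zero_of_lt (by simpa [Nat.lt_succ_iff] using hj), Nat.cast_zero, zero_smul])]
    refine Finset.sum_congr rfl fun j _ => ?_
    rw [Algebra.TensorProduct.tmul_pow, Algebra.TensorProduct.tmul_pow, one_pow, one_pow,
      Algebra.TensorProduct.tmul_mul_tmul, one_mul, mul_one, ← Nat.cast_comm, ← nsmul_eq_mul,
      Nat.cast_smul_eq_nsmul]
  rw [mono_ofFn, map_list_prod, List.map_ofFn]
  simp only [Function.comp_def, hi]
  rw [prod_ofFn_sum]
  refine Finset.sum_congr rfl fun g _ => ?_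
  rw [prod_ofFn_tmul, mono_ofFn, mono_ofFn]
  rfl

/-- The dual Hopf algebra. -/
abbrev Dl : Type (max u v) := CartDual.D k (UR φ)

theorem convMul_mono (f g : Dl φ) (c : Fin n → Fin p) :
    (f * g) (mono φ b c) =
      ∑ x : Fin n → Fin p, (∏ i, (((c i : ℕ).choose (x i) : ℕ) : k)) * (f (mono φ b x) * g (mono φ b (sub c x))) := by
  rw [LinearMap.convMul_apply, comul_eq, comul_mono, map_sum, map_sum]
  refine Finset.sum_congr rfl fun x _ => ?_
  simp

theorem convMul_prim (f g : Dl φ) (u : UR φ) (x : L) :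
    (f * g) (u * iota φ x) =
      (toConv (f.ofConv ∘ₗ LinearMap.mulRight k (iota φ x)) * g : Dl φ) u +
        (f * toConv (g.ofConv ∘ₗ LinearMap.mulRight k (iota φ x)) : Dl φ) u := by
  simp only [LinearMap.convMul_apply, comul_eq, map_mul, comulHom_iota]
  induction comulHom φ u with
  | zero => simp
  | add a c ha hc => simp only [add_mul, map_add, ha, hc]; abel
  | tmul a c => simp [mul_add, Algebra.TensorProduct.tmul_mul_tmul]

/-- The derivation of the dual attached to an element. -/
def eDer : L →ₗ[k] Derivation k (Dl φ) (Dl φ) where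
  toFun x := Derivation.mk'
    { toFun := fun f => toConv (f.ofConv ∘ₗ LinearMap.mulRight k (iota φ x))
      map_add' := fun f g => by ext u; simp
      map_smul' := fun r f => by ext u; simp }
    fun f g => by
      refine WithConv.ext (LinearMap.ext fun u => ?_)
      change (f * g) (u * iota φ x) = _
      rw [convMul_prim, smul_eq_mul, smul_eq_mul, mul_comm g, WithConv.ofConv_add, LinearMap.add_apply]
      exact add_comm _ _
  map_add' x y := by ext f u; simp [mul_add]
  map_smul' r x := by ext f u; simp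

theorem eDer_apply (x : L) (f : Dl φ) (u : UR φ) : eDer φ x f u = f (u * iota φ x) := rfl

theorem eDer_pow (x : L) (m : ℕ) (f : Dl φ) (u : UR φ) :
    (((eDer φ x).toLinearMap ^ m) f) u = f (u * iota φ x ^ m) := by
  induction m generalizing u with
  | zero => simp
  | succ m ih =>
    rw [pow_succ', Module.End.mul_apply]
    change eDer φ x _ u = _
    rw [eDer_apply, ih, mul_assoc, ← pow_succ']

theorem eDer_lie (x y : L) : eDer φ ⁅x, y⁆ = ⁅eDer φ x, eDer φ y⁆ := by
  refine Derivation.ext fun f => WithConv.ext (LinearMap.ext fun u => ?_)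
  rw [Derivation.commutator_apply]
  change f (u * iota φ ⁅x, y⁆) = f (u * iota φ x * iota φ y) - f (u * iota φ y * iota φ x)
  rw [iota_lie, mul_sub, map_sub, mul_assoc, mul_assoc]

theorem eDer_pmap (x : L) : (eDer φ (φ.toFun x)).toLinearMap = (eDer φ x).toLinearMap ^ p := by
  refine LinearMap.ext fun f => WithConv.ext (LinearMap.ext fun u => ?_)
  change eDer φ (φ.toFun x) f u = (((eDer φ x).toLinearMap ^ p) f) u
  rw [eDer_pow, eDer_apply, iota_pow]

/-- Coordinate functionals. -/
def dlt (c : Fin n → Fin p) : Dl φ := toConv ((basis φ b).coord c)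

theorem dlt_mono (c d : Fin n → Fin p) : dlt φ b c (mono φ b d) = if d = c then 1 else 0 := by
  classical
  rw [← basis_apply]
  simp [dlt, Finsupp.single_apply]

theorem sum_dlt (f : Dl φ) : ∑ c, f (mono φ b c) • dlt φ b c = f := by
  classical
  refine WithConv.ext ((basis φ b).ext fun d => ?_)
  rw [basis_apply, WithConv.ofConv_sum, LinearMap.sum_apply]
  simp [dlt_mono]

theorem mono_zero : mono φ b (fun _ => ⟨0, hp.out.pos⟩) = 1 := by
  simp [mono]

/-- The value of the counit on the dual is evaluation at `1`. -/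
theorem dlt_pow_support (a : Fin n → Fin p) :
    ∀ (j : ℕ) (c : Fin n → Fin p), (dlt φ b a ^ (j + 1)) (mono φ b c) ≠ 0 → ∀ i, (c i : ℕ) = (j + 1) * a i := by
  classical
  intro j
  induction j with
  | zero =>
    intro c hc i
    rw [zero_add, pow_one, dlt_mono] at hc
    by_cases h : c = a
    · rw [h, zero_add, one_mul]
    · rw [if_neg h] at hc; exact absurd rfl hc
  | succ j ih =>
    intro c hc i
    rw [pow_succ, convMul_mono] at hc
    obtain ⟨x, -, hx⟩ := Finset.exists_ne_zero_of_sum_ne_zero hc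
    have hx1 : (dlt φ b a ^ (j + 1)) (mono φ b x) ≠ 0 := fun h => hx (by rw [h, zero_mul, mul_zero])
    have hx2 : dlt φ b a (mono φ b (sub c x)) ≠ 0 := fun h => hx (by rw [h, mul_zero, mul_zero])
    have hsub : sub c x = a := by
      by_contra h; rw [dlt_mono, if_neg h] at hx2; exact hx2 rfl
    have hle : (x i : ℕ) ≤ c i := by
      by_contra h
      refine hx ?_
      rw [Finset.prod_eq_zero (Finset.mem_univ i) (by rw [Nat.choose_eq_zero_of_lt (not_le.1 h), Nat.cast_zero]),
        zero_mul]
    have h2 : (c i : ℕ) - x i = a i := congrArg Fin.val (congrFun hsub i)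
    have h1 := ih x hx1 i
    rw [Nat.succ_mul]
    omega

variable (n) in
/-- The exponents of a basis vector. -/
def sgl (i : Fin n) : Fin n → Fin p :=
  fun j => if j = i then ⟨1, hp.out.one_lt⟩ else ⟨0, hp.out.pos⟩

theorem mono_sgl (i : Fin n) : mono φ b (sgl n i) = iota φ (b i) := by
  rw [mono, List.prod_map_eq_pow_single i _ fun j hj _ => by simp [sgl, hj],
    List.count_eq_one_of_mem (List.nodup_finRange n) (List.mem_finRange i)]
  simp [sgl]

theorem dlt_one (c : Fin n → Fin p) (i : Fin n) (h : (c i : ℕ) ≠ 0) : dlt φ b c (1 : UR φ) = 0 := by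
  classical
  rw [← mono_zero φ b, dlt_mono, if_neg]
  intro he
  exact h (congrArg Fin.val (congrFun he i)).symm

end Groth.L08.UL

namespace Groth.L08.UL

variable {k : Type u} [Field k] {p : ℕ} [hp : Fact p.Prime] [CharP k p]
  {L : Type v} [LieRing L] [LieAlgebra k L] (φ : _root_.PLie.PMap k p L) {n : ℕ} (b : Module.Basis (Fin n) k L)

include b in
theorem pow_p_eq_zero (f : Dl φ) (hf : f 1 = 0) : f ^ p = 0 := by
  classical
  haveI : Nontrivial (UR φ) := (counitHom φ).toRingHom.domain_nontrivial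
  haveI : Nontrivial (Dl φ) := ⟨⟨1, 0, fun h => one_ne_zero (α := k) (by
    have := congrArg (fun g : Dl φ => g (1 : UR φ)) h
    simpa using this)⟩⟩
  haveI : CharP (Dl φ) p := charP_of_injective_algebraMap (algebraMap k (Dl φ)).injective p
  haveI : ExpChar (Dl φ) p := ExpChar.prime hp.out
  rw [← sum_dlt φ b f, sum_pow_char]
  refine Finset.sum_eq_zero fun a _ => ?_
  rw [smul_pow]
  by_cases ha : ∀ i, (a i : ℕ) = 0
  · rw [show mono φ b a = 1 by rw [← mono_zero φ b]; exact congrArg _ (funext fun i => Fin.ext (ha i)), hf,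
      zero_pow hp.out.ne_zero, zero_smul]
  · push Not at ha
    obtain ⟨i, hi⟩ := ha
    refine smul_eq_zero_of_right _ (WithConv.ext ((basis φ b).ext fun c => ?_))
    rw [basis_apply]
    by_contra hne
    have h := dlt_pow_support φ b a (p - 1) c
      (fun h0 => hne (by rw [Nat.sub_add_cancel hp.out.pos] at h0; exact h0)) i
    rw [Nat.sub_add_cancel hp.out.pos] at h
    have := (c i).2
    rw [h] at this
    exact absurd this (not_lt.2 (Nat.le_mul_of_pos_right _ (Nat.pos_of_ne_zero hi)))

include b in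
theorem mem_range_of_prim (w : UR φ)
    (hw : ∀ f g : Dl φ, (f * g) w = f w * g 1 + f 1 * g w) : w ∈ LinearMap.range (iota φ) := by
  classical
  rw [← (basis φ b).sum_repr w]
  refine Submodule.sum_mem _ fun c _ => ?_
  have hcoord : ∀ d, (basis φ b).repr w d = dlt φ b d w := fun d => rfl
  by_cases hc : ∀ i, (c i : ℕ) = 0
  · have hc0 : mono φ b c = 1 := by
      rw [← mono_zero φ b]; exact congrArg _ (funext fun i => Fin.ext (hc i))
    have h := hw (dlt φ b c) (dlt φ b c)
    have h1 : dlt φ b c (1 : UR φ) = 1 := by rw [← hc0, dlt_mono, if_pos rfl]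
    have h2 : (dlt φ b c * dlt φ b c) w = dlt φ b c w := by
      suffices h3 : dlt φ b c * dlt φ b c = dlt φ b c by rw [h3]
      refine WithConv.ext ((basis φ b).ext fun d => ?_)
      rw [basis_apply]
      change (dlt φ b c * dlt φ b c) (mono φ b d) = dlt φ b c (mono φ b d)
      rw [convMul_mono, Finset.sum_eq_single c]
      · rw [dlt_mono φ b c c, if_pos rfl, one_mul,
          show sub d c = d from funext fun i => Fin.ext (by simp [sub, hc i])]
        simp [hc]
      · intro x _ hx
        rw [dlt_mono φ b c x, if_neg hx, zero_mul, mul_zero]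
      · intro h; exact absurd (Finset.mem_univ c) h
    rw [h2, h1, mul_one, one_mul] at h
    rw [hcoord, left_eq_add.1 h, zero_smul]
    exact zero_mem _
  push Not at hc
  obtain ⟨i, hi⟩ := hc
  by_cases hcs : c = sgl n i
  · rw [basis_apply, hcs, mono_sgl]
    exact Submodule.smul_mem _ _ ⟨b i, rfl⟩
  suffices h0 : (basis φ b).repr w c = 0 by rw [h0, zero_smul]; exact zero_mem _
  let y : Fin n → Fin p := sub c (sgl n i)
  obtain ⟨j, hj⟩ : ∃ j, (y j : ℕ) ≠ 0 := by
    by_contra hy
    push Not at hy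
    refine hcs (funext fun j => Fin.ext ?_)
    have := hy j
    by_cases hji : j = i <;> simp [y, sub, sgl, hji] at this ⊢ <;> omega
  have hsgl : ((sgl n i : Fin n → Fin p) i : ℕ) ≠ 0 := by simp [sgl]
  have h := hw (dlt φ b (sgl n i)) (dlt φ b y)
  rw [dlt_one φ b y j hj, dlt_one φ b (sgl n i) i hsgl, mul_zero, zero_mul, add_zero] at h
  have hprod : dlt φ b (sgl n i) * dlt φ b y = ((c i : ℕ) : k) • dlt φ b c := by
    refine WithConv.ext ((basis φ b).ext fun d => ?_)
    rw [basis_apply]
    change (dlt φ b (sgl n i) * dlt φ b y) (mono φ b d) = ((c i : ℕ) : k) * dlt φ b c (mono φ b d)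
    rw [convMul_mono, Finset.sum_eq_single (sgl n i), dlt_mono φ b (sgl n i) (sgl n i), if_pos rfl, one_mul,
      dlt_mono, dlt_mono]
    · by_cases hdc : d = c
      · subst hdc
        rw [if_pos rfl, if_pos rfl, mul_one, mul_one, Finset.prod_eq_single i]
        · simp [sgl]
        · intro l _ hl; simp [sgl, hl]
        · simp
      · rw [if_neg hdc, mul_zero]
        by_cases hd : 1 ≤ (d i : ℕ)
        · rw [if_neg, mul_zero]
          intro he
          refine hdc (funext fun l => Fin.ext ?_)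
          have := congrArg Fin.val (congrFun he l)
          by_cases hli : l = i
          · subst hli; simp [y, sub, sgl] at this ⊢; omega
          · simpa [y, sub, sgl, hli] using this
        · rw [Finset.prod_eq_zero (Finset.mem_univ i), zero_mul]
          simp [sgl]
          exact_mod_cast (by simp [show (d i : ℕ) = 0 by omega] : ((d i : ℕ) : k) = 0)
    · intro x _ hx; rw [dlt_mono φ b (sgl n i) x, if_neg hx, zero_mul, mul_zero]
    · intro h; exact absurd (Finset.mem_univ _) h
  rw [hprod] at h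
  have hne : ((c i : ℕ) : k) ≠ 0 := by
    rw [Ne, CharP.cast_eq_zero_iff k p]
    exact Nat.not_dvd_of_pos_of_lt (Nat.pos_of_ne_zero hi) (c i).2
  rw [hcoord]
  exact (mul_eq_zero.1 h).resolve_left hne

include b in
theorem eDer_injective : Function.Injective (eDer φ) := by
  intro x y h
  refine iota_injective φ b ((basis φ b).ext_elem fun c => ?_)
  have := congrArg (fun D : Derivation k (Dl φ) (Dl φ) => D (dlt φ b c) (1 : UR φ)) h
  simp only [eDer_apply, one_mul] at this
  exact this

variable [Module.Finite k (UR φ)]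

theorem ev₂_lTensor (D : Dl φ →ₗ[k] Dl φ) (y : Dl φ ⊗[k] Dl φ) (u v : UR φ) (w : UR φ)
    (h : ∀ g : Dl φ, D g v = g w) :
    CartDual.ev₂ k (UR φ) (LinearMap.lTensor (Dl φ) D y) (u ⊗ₜ v) = CartDual.ev₂ k (UR φ) y (u ⊗ₜ w) := by
  induction y with
  | zero => simp
  | add a c ha hc => simp only [map_add, LinearMap.add_apply, ha, hc]
  | tmul f g => rw [LinearMap.lTensor_tmul, CartDual.ev₂_tmul, CartDual.ev₂_tmul, h]

theorem eDer_leftInvariant (x : L) :
    CoalgebraStruct.comul (R := k) (A := Dl φ) ∘ₗ (eDer φ x).toLinearMap =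
      LinearMap.lTensor (Dl φ) (eDer φ x).toLinearMap ∘ₗ CoalgebraStruct.comul (R := k) (A := Dl φ) := by
  refine LinearMap.ext fun f => (CartDual.ev₂ k (UR φ)).injective (TensorProduct.ext' fun u v => ?_)
  rw [LinearMap.comp_apply, LinearMap.comp_apply, ev₂_lTensor φ _ _ u v (v * iota φ x) fun g => rfl,
    CartDual.ev₂_coalgebra_comul_tmul, CartDual.ev₂_coalgebra_comul_tmul]
  exact (eDer_apply φ x f (u * v)).trans (by rw [mul_assoc])

include b in
theorem mem_range_of_leftInvariant (D : Derivation k (Dl φ) (Dl φ))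
    (hD : CoalgebraStruct.comul (R := k) (A := Dl φ) ∘ₗ D.toLinearMap =
      LinearMap.lTensor (Dl φ) D.toLinearMap ∘ₗ CoalgebraStruct.comul (R := k) (A := Dl φ)) :
    D ∈ Set.range (eDer φ) := by
  let w : UR φ := ∑ c, D (dlt φ b c) (1 : UR φ) • mono φ b c
  have hw : ∀ g : Dl φ, D g (1 : UR φ) = g w := fun g => by
    conv_lhs => rw [← sum_dlt φ b g, map_sum]
    change ((∑ c, D (g (mono φ b c) • dlt φ b c) : Dl φ)).ofConv 1 = g.ofConv (∑ c, _ • _)
    rw [WithConv.ofConv_sum, LinearMap.sum_apply, map_sum]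
    refine Finset.sum_congr rfl fun c _ => ?_
    rw [D.map_smul, map_smul, WithConv.ofConv_smul, LinearMap.smul_apply, smul_eq_mul, smul_eq_mul, mul_comm]
  obtain ⟨x, hx⟩ := mem_range_of_prim φ b w fun f g => by
    have hone : ∀ f g : Dl φ, (f * g) (1 : UR φ) = f 1 * g 1 := fun f g => by
      simp [LinearMap.convMul_apply, comul_eq, Algebra.TensorProduct.one_def]
    rw [← hw, ← hw, ← hw, D.leibniz]
    change (f • D g + g • D f).ofConv 1 = _
    rw [WithConv.ofConv_add, LinearMap.add_apply, smul_eq_mul, smul_eq_mul]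
    change (f * D g) (1 : UR φ) + (g * D f) (1 : UR φ) = _
    rw [hone, hone]
    ring
  refine ⟨x, Derivation.ext fun f => WithConv.ext (LinearMap.ext fun u => ?_)⟩
  have h := LinearMap.congr_fun (congrArg (CartDual.ev₂ k (UR φ)) (LinearMap.congr_fun hD f)) (u ⊗ₜ[k] 1)
  rw [LinearMap.comp_apply, LinearMap.comp_apply, ev₂_lTensor φ _ _ u 1 w hw, CartDual.ev₂_coalgebra_comul_tmul,
    CartDual.ev₂_coalgebra_comul_tmul, mul_one] at h
  change f (u * iota φ x) = D f u
  rw [hx]
  exact h.symm

end Groth.L08.UL
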