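import Groth.Agent.L08.UL.Restricted
import Mathlib.RingTheory.HopfAlgebra.Basic
import Mathlib.RingTheory.Bialgebra.Basic
import Mathlib.Algebra.Algebra.Opposite

/-!
# The Hopf algebra structure of the restricted enveloping algebra
-/

universe u v w

open TensorProduct

noncomputable section

namespace Groth.L08.UL

attribute [local instance] LieRing.ofAssociativeRing

variable {k : Type u} [CommRing k] {p : ℕ} [hp : Fact p.Prime] [CharP k p]
  {L : Type v} [LieRing L] [LieAlgebra k L] (φ : _root_.PLie.PMap k p L)

omit hp in
theorem natCast_eq_zero (k : Type u) [CommRing k] [CharP k p] (A : Type w) [Ring A] [Algebra k A] : (p : A) = 0 := by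
  rw [← map_natCast (algebraMap k A) p, CharP.cast_eq_zero, map_zero]

/-- The algebra is generated by `L`. -/
@[elab_as_elim]
theorem UR_induction {P : UR φ → Prop} (halg : ∀ r, P (algebraMap k (UR φ) r)) (hι : ∀ x, P (iota φ x))
    (hmul : ∀ u v, P u → P v → P (u * v)) (hadd : ∀ u v, P u → P v → P (u + v)) (u : UR φ) : P u := by
  obtain ⟨w, rfl⟩ := RingQuot.mkAlgHom_surjective k (Rel φ) u
  obtain ⟨a, rfl⟩ : ∃ a, UniversalEnvelopingAlgebra.mkAlgHom k L a = w := RingCon.mkₐ_surjective _ w
  induction a using TensorAlgebra.induction with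
  | algebraMap r => rw [AlgHom.commutes, AlgHom.commutes]; exact halg r
  | ι x => exact hι x
  | mul a c ha hc => rw [map_mul, map_mul]; exact hmul _ _ ha hc
  | add a c ha hc => rw [map_add, map_add]; exact hadd _ _ ha hc

/-- Comultiplication. -/
def comulHom : UR φ →ₐ[k] UR φ ⊗[k] UR φ :=
  lift φ
    ((TensorProduct.mk k (UR φ) (UR φ)).flip 1 ∘ₗ iota φ + TensorProduct.mk k (UR φ) (UR φ) 1 ∘ₗ iota φ)
    (fun x y => by
      simp only [LinearMap.add_apply, LinearMap.comp_apply, LinearMap.flip_apply, TensorProduct.mk_apply,
        iota_lie, sub_tmul, tmul_sub, add_mul, mul_add, Algebra.TensorProduct.tmul_mul_tmul, one_mul, mul_one]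
      abel)
    (fun x => by
      simp only [LinearMap.add_apply, LinearMap.comp_apply, LinearMap.flip_apply, TensorProduct.mk_apply,
        iota_pow]
      have hc : Commute (iota φ x ⊗ₜ[k] (1 : UR φ)) ((1 : UR φ) ⊗ₜ[k] iota φ x) := by
        simp [Commute, SemiconjBy]
      obtain ⟨r, hr⟩ := Commute.exists_add_pow_prime_eq hp.out hc
      rw [hr, natCast_eq_zero k (UR φ ⊗[k] UR φ), zero_mul, zero_mul, zero_mul, add_zero,
        Algebra.TensorProduct.tmul_pow, Algebra.TensorProduct.tmul_pow, one_pow])

theorem comulHom_iota (x : L) : comulHom φ (iota φ x) = iota φ x ⊗ₜ 1 + 1 ⊗ₜ iota φ x := lift_iota φ _ _ _ x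

/-- Counit. -/
def counitHom : UR φ →ₐ[k] k :=
  lift φ 0 (fun x y => by simp) (fun x => by simp [zero_pow hp.out.ne_zero])

theorem counitHom_iota (x : L) : counitHom φ (iota φ x) = 0 := lift_iota φ _ _ _ x

instance instBialgebraUR : Bialgebra k (UR φ) :=
  Bialgebra.ofAlgHom (comulHom φ) (counitHom φ)
    (hom_ext φ fun x => by
      simp only [AlgHom.comp_apply, comulHom_iota, map_add, Algebra.TensorProduct.map_tmul, map_one,
        AlgEquiv.coe_toAlgHom, AlgHom.id_apply, add_tmul, tmul_add, Algebra.TensorProduct.assoc_tmul,
        Algebra.TensorProduct.one_def]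
      abel)
    (hom_ext φ fun x => by
      simp [comulHom_iota, counitHom_iota])
    (hom_ext φ fun x => by
      simp [comulHom_iota, counitHom_iota])

theorem comul_eq (u : UR φ) : Coalgebra.comul (R := k) u = comulHom φ u := rfl

theorem counit_eq (u : UR φ) : Coalgebra.counit (R := k) u = counitHom φ u := rfl

/-- The antipode into the opposite ring. -/
def antipodeHom : UR φ →ₐ[k] (UR φ)ᵐᵒᵖ :=
  lift φ ((MulOpposite.opLinearEquiv k).toLinearMap ∘ₗ (-iota φ))
    (fun x y => by
      simp only [LinearMap.comp_apply, LinearMap.neg_apply, LinearEquiv.coe_coe, MulOpposite.coe_opLinearEquiv,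
        iota_lie, ← MulOpposite.op_mul, ← MulOpposite.op_sub, neg_mul_neg, neg_sub])
    (fun x => by
      simp only [LinearMap.comp_apply, LinearMap.neg_apply, LinearEquiv.coe_coe, MulOpposite.coe_opLinearEquiv,
        iota_pow, ← MulOpposite.op_pow]
      have h1 : ((-1 : UR φ)) ^ (p - 1) = 1 := by
        rw [← Jac.choose_cast hp.out (natCast_eq_zero k (UR φ)) (p - 1) (Nat.sub_lt hp.out.pos one_pos),
          Nat.choose_self, Nat.cast_one]
      have h2 : ((-1 : UR φ)) ^ p = -1 :=
        (congrArg (fun m => (-1 : UR φ) ^ m) (Nat.sub_add_cancel hp.out.pos).symm).trans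
          (by rw [pow_succ, h1, one_mul])
      rw [neg_pow, h2, neg_one_mul])

/-- The antipode. -/
def antipodeLin : UR φ →ₗ[k] UR φ :=
  (MulOpposite.opLinearEquiv k).symm.toLinearMap ∘ₗ (antipodeHom φ).toLinearMap

theorem antipodeLin_mul (u v : UR φ) : antipodeLin φ (u * v) = antipodeLin φ v * antipodeLin φ u := by
  simp [antipodeLin]

theorem antipodeLin_algebraMap (r : k) : antipodeLin φ (algebraMap k (UR φ) r) = algebraMap k (UR φ) r := by
  simp [antipodeLin, MulOpposite.algebraMap_apply]

theorem antipodeLin_iota (x : L) : antipodeLin φ (iota φ x) = -iota φ x := by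
  simp [antipodeLin, antipodeHom, lift_iota]

instance instHopfAlgebraUR : HopfAlgebra k (UR φ) where
  antipode := antipodeLin φ
  mul_antipode_rTensor_comul := by
    refine LinearMap.ext fun u => ?_
    change LinearMap.mul' k (UR φ) ((antipodeLin φ).rTensor _ (comulHom φ u)) = algebraMap k _ (counitHom φ u)
    induction u using UR_induction φ with
    | halg r =>
      simp [Algebra.TensorProduct.algebraMap_apply, antipodeLin_algebraMap]
    | hι x =>
      have h1 : antipodeLin φ (1 : UR φ) = 1 := by simpa using antipodeLin_algebraMap φ 1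
      simp [comulHom_iota, counitHom_iota, antipodeLin_iota, h1]
    | hmul u v hu hv =>
      have key : ∀ t s : UR φ ⊗[k] UR φ, LinearMap.mul' k (UR φ) ((antipodeLin φ).rTensor _ t) =
          algebraMap k _ (counitHom φ u) →
          LinearMap.mul' k (UR φ) ((antipodeLin φ).rTensor _ (t * s)) =
            algebraMap k _ (counitHom φ u) * LinearMap.mul' k (UR φ) ((antipodeLin φ).rTensor _ s) := by
        intro t s ht
        induction s with
        | zero => simp
        | add a c ha hc => simp only [mul_add, map_add, ha, hc]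
        | tmul a c =>
          have h2 : LinearMap.mul' k (UR φ) ((antipodeLin φ).rTensor _ (t * a ⊗ₜ c)) =
              antipodeLin φ a * LinearMap.mul' k (UR φ) ((antipodeLin φ).rTensor _ t) * c := by
            clear ht
            induction t with
            | zero => simp
            | add x y hx hy => simp only [add_mul, map_add, hx, hy, mul_add]
            | tmul x y => simp [antipodeLin_mul, mul_assoc]
          rw [h2, ht, LinearMap.rTensor_tmul, LinearMap.mul'_apply, ← Algebra.commutes, mul_assoc]
      rw [map_mul, key _ _ hu, hv, map_mul, map_mul]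
    | hadd u v hu hv => simp only [map_add, hu, hv]
  mul_antipode_lTensor_comul := by
    refine LinearMap.ext fun u => ?_
    change LinearMap.mul' k (UR φ) ((antipodeLin φ).lTensor _ (comulHom φ u)) = algebraMap k _ (counitHom φ u)
    induction u using UR_induction φ with
    | halg r =>
      have h1 : antipodeLin φ (1 : UR φ) = 1 := by simpa using antipodeLin_algebraMap φ 1
      simp [Algebra.TensorProduct.algebraMap_apply, h1]
    | hι x =>
      have h1 : antipodeLin φ (1 : UR φ) = 1 := by simpa using antipodeLin_algebraMap φ 1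
      simp [comulHom_iota, counitHom_iota, antipodeLin_iota, h1]
    | hmul u v hu hv =>
      have key : ∀ t s : UR φ ⊗[k] UR φ, LinearMap.mul' k (UR φ) ((antipodeLin φ).lTensor _ s) =
          algebraMap k _ (counitHom φ v) →
          LinearMap.mul' k (UR φ) ((antipodeLin φ).lTensor _ (t * s)) =
            LinearMap.mul' k (UR φ) ((antipodeLin φ).lTensor _ t) * algebraMap k _ (counitHom φ v) := by
        intro t s hs
        induction t with
        | zero => simp
        | add a c ha hc => simp only [add_mul, map_add, ha, hc]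
        | tmul a c =>
          have h2 : LinearMap.mul' k (UR φ) ((antipodeLin φ).lTensor _ (a ⊗ₜ c * s)) =
              a * LinearMap.mul' k (UR φ) ((antipodeLin φ).lTensor _ s) * antipodeLin φ c := by
            clear hs
            induction s with
            | zero => simp
            | add x y hx hy => simp only [mul_add, map_add, hx, hy, add_mul]
            | tmul x y => simp [antipodeLin_mul, mul_assoc]
          rw [h2, hs, LinearMap.lTensor_tmul, LinearMap.mul'_apply, mul_assoc, Algebra.commutes, ← mul_assoc]
      rw [map_mul, key _ _ hv, hu, map_mul, map_mul]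
    | hadd u v hu hv => simp only [map_add, hu, hv]

instance instIsCocommUR : Coalgebra.IsCocomm k (UR φ) where
  comm_comp_comul := by
    refine LinearMap.ext fun u => ?_
    change TensorProduct.comm k (UR φ) (UR φ) (comulHom φ u) = comulHom φ u
    refine AlgHom.congr_fun (hom_ext φ (f := ((Algebra.TensorProduct.comm k (UR φ) (UR φ)).toAlgHom).comp (comulHom φ))
      fun x => ?_) u
    simp [comulHom_iota, add_comm]

end Groth.L08.UL
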