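import Groth.Agent.L08.UL.Triangular
import Groth.Agent.L08.PLie
import Mathlib.Algebra.RingQuot
import Mathlib.LinearAlgebra.Basis.Basic
import Mathlib.LinearAlgebra.StdBasis

/-!
# The restricted enveloping algebra and its basis
-/

universe u v w

noncomputable section

namespace Groth.L08.UL

attribute [local instance] LieRing.ofAssociativeRing

variable {k : Type u} [CommRing k] {p : ℕ} [hp : Fact p.Prime] [CharP k p]
  {L : Type v} [LieRing L] [LieAlgebra k L] (φ : _root_.PLie.PMap k p L)

local notation "U" => UniversalEnvelopingAlgebra k L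

/-- `x ^ p = x^[p]`. -/
inductive Rel : UniversalEnvelopingAlgebra k L → UniversalEnvelopingAlgebra k L → Prop
  | pow (x : L) : Rel (UniversalEnvelopingAlgebra.ι k x ^ p) (UniversalEnvelopingAlgebra.ι k (φ.toFun x))

/-- The restricted enveloping algebra. -/
abbrev UR : Type (max u v) := RingQuot (Rel φ)

/-- The quotient map. -/
def mkU : U →ₐ[k] UR φ := RingQuot.mkAlgHom k (Rel φ)

/-- The structure map. -/
def iota : L →ₗ[k] UR φ := (mkU φ).toLinearMap ∘ₗ (UniversalEnvelopingAlgebra.ι k : L →ₗ⁅k⁆ U).toLinearMap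

theorem iota_lie (x y : L) : iota φ ⁅x, y⁆ = iota φ x * iota φ y - iota φ y * iota φ x := by
  change mkU φ (UniversalEnvelopingAlgebra.ι k ⁅x, y⁆) = _
  rw [LieHom.map_lie, LieRing.of_associative_ring_bracket, map_sub, map_mul, map_mul]
  rfl

theorem iota_pow (x : L) : iota φ (φ.toFun x) = iota φ x ^ p := by
  change mkU φ _ = mkU φ _ ^ p
  rw [← map_pow]
  exact (RingQuot.mkAlgHom_rel k (Rel.pow x)).symm

section Lift

variable {A : Type w} [Ring A] [Algebra k A]

/-- The universal property. -/
def lift (g : L →ₗ[k] A) (hg : ∀ x y, g ⁅x, y⁆ = g x * g y - g y * g x) (hgp : ∀ x, g (φ.toFun x) = g x ^ p) :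
    UR φ →ₐ[k] A :=
  RingQuot.liftAlgHom k ⟨UniversalEnvelopingAlgebra.lift k
      { g with map_lie' := fun {x y} => (hg x y).trans (LieRing.of_associative_ring_bracket (g x) (g y)).symm },
    fun a c h => by
      obtain ⟨x⟩ := h
      rw [map_pow, UniversalEnvelopingAlgebra.lift_ι_apply, UniversalEnvelopingAlgebra.lift_ι_apply]
      exact (hgp x).symm⟩

theorem lift_iota (g : L →ₗ[k] A) (hg : ∀ x y, g ⁅x, y⁆ = g x * g y - g y * g x)
    (hgp : ∀ x, g (φ.toFun x) = g x ^ p) (x : L) : lift φ g hg hgp (iota φ x) = g x := by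
  change lift φ g hg hgp (RingQuot.mkAlgHom k (Rel φ) _) = _
  rw [lift, RingQuot.liftAlgHom_mkAlgHom_apply]
  exact UniversalEnvelopingAlgebra.lift_ι_apply k _ x

omit hp in
theorem hom_ext {f g : UR φ →ₐ[k] A} (h : ∀ x, f (iota φ x) = g (iota φ x)) : f = g :=
  RingQuot.ringQuot_ext' k f g (UniversalEnvelopingAlgebra.hom_ext k (LieHom.ext h))

/-- `p`-compatibility is checked on a basis. -/
theorem map_pow_of_basis {ι : Type*} (b : Module.Basis ι k L) (g : L →ₗ[k] A)
    (hg : ∀ x y, g ⁅x, y⁆ = g x * g y - g y * g x) (hb : ∀ i, g (φ.toFun (b i)) = g (b i) ^ p) (x : L) :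
    g (φ.toFun x) = g x ^ p := by
  induction b.span_eq.ge (Submodule.mem_top (x := x)) using Submodule.span_induction with
  | mem x hx => obtain ⟨i, rfl⟩ := hx; exact hb i
  | zero => rw [PLie.pmap_zero, map_zero, zero_pow hp.out.ne_zero]
  | add x y _ _ hx hy => rw [φ.map_add, Jac.pow_map_add g hg, map_sub, map_add, hx, hy]
  | smul c x _ hx => rw [φ.map_smul, map_smul, map_smul, smul_pow, hx]

end Lift

variable {n : ℕ} (b : Module.Basis (Fin n) k L)

/-- The central element attached to a basis vector. -/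
def z (i : Fin n) : U := e b i ^ p - UniversalEnvelopingAlgebra.ι k (φ.toFun (b i))

theorem z_comm_ι (i : Fin n) (w : L) :
    z φ b i * UniversalEnvelopingAlgebra.ι k w = UniversalEnvelopingAlgebra.ι k w * z φ b i := by
  let g : L →ₗ[k] U := (UniversalEnvelopingAlgebra.ι k : L →ₗ⁅k⁆ U).toLinearMap
  have hg : ∀ x y : L, g ⁅x, y⁆ = g x * g y - g y * g x := fun x y =>
    (LieHom.map_lie _ x y).trans (LieRing.of_associative_ring_bracket _ _)
  have h1 := PLie.commutator_pow g hg (b i) w (p := p)
  rw [← φ.ad_map, LieAlgebra.ad_apply, hg] at h1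
  simp only [z, sub_mul, mul_sub, e]
  rw [sub_eq_sub_iff_sub_eq_sub]
  exact h1.symm

theorem z_mem_center (i : Fin n) : z φ b i ∈ Subalgebra.center k U := by
  rw [Subalgebra.mem_center_iff]
  intro u
  obtain ⟨a, rfl⟩ : ∃ a, UniversalEnvelopingAlgebra.mkAlgHom k L a = u := RingCon.mkₐ_surjective _ u
  induction a using TensorAlgebra.induction with
  | algebraMap r => rw [AlgHom.commutes]; exact Algebra.commutes r _
  | ι x => exact (z_comm_ι φ b i x).symm
  | mul a c ha hc => rw [map_mul, mul_assoc, hc, ← mul_assoc, ha, mul_assoc]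
  | add a c ha hc => rw [map_add, add_mul, mul_add, ha, hc]

/-- Ordered monomials. -/
def Al (c : Fin n → ℕ) : U := ((List.finRange n).map fun i => e b i ^ c i).prod

/-- Monomials in the central elements. -/
def Zl (c : Fin n → ℕ) : Subalgebra.center k U := ∏ i, (⟨z φ b i, z_mem_center φ b i⟩ : Subalgebra.center k U) ^ c i

theorem Zl_coe (c : Fin n → ℕ) : (Zl φ b c : U) = ((List.finRange n).map fun i => z φ b i ^ c i).prod := by
  rw [Zl, Fin.prod_univ_def, ← Subalgebra.coe_val, map_list_prod, List.map_map]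
  congr 1

theorem Zl_add_single (c : Fin n → ℕ) (i : Fin n) :
    (Zl φ b (c + Pi.single i 1) : U) = z φ b i * (Zl φ b c : U) := by
  rw [show z φ b i * (Zl φ b c : U) =
    ((⟨z φ b i, z_mem_center φ b i⟩ : Subalgebra.center k U) * Zl φ b c : Subalgebra.center k U) from rfl]
  congr 1
  rw [Zl, Zl]
  simp only [Pi.add_apply, pow_add, Finset.prod_mul_distrib]
  rw [mul_comm, Finset.prod_eq_single i (fun j _ hj => by simp [Pi.single_eq_of_ne hj]) (by simp)]
  simp

/-- The second basis of `U`. -/
def W (M : PBW.SL (Fin n)) : U := Al b (fun i => cnt M i % p) * (Zl φ b (fun i => cnt M i / p) : U)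

theorem z_app (i : Fin n) : App b (z φ b i) (List.replicate p i) := by
  let g : L →ₗ[k] U := (UniversalEnvelopingAlgebra.ι k : L →ₗ⁅k⁆ U).toLinearMap
  rw [App, List.map_replicate, List.prod_replicate, List.length_replicate, z, sub_sub_cancel_left]
  refine neg_mem ?_
  change g (φ.toFun (b i)) ∈ G b p
  rw [← b.sum_repr (φ.toFun (b i)), map_sum]
  refine Submodule.sum_mem _ fun j _ => ?_
  rw [map_smul]
  refine Submodule.smul_mem _ _ (G_mono b hp.out.two_le ?_)
  simpa [g, e] using prod_mem b [j]

theorem W_app (M : PBW.SL (Fin n)) : W φ b M - PBW.mon b (Finsupp.single M 1) ∈ G b M.1.length := by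
  have hA := App.list b (List.finRange n) (f := fun i => e b i ^ (cnt M i % p))
    (g := fun i => (List.replicate (cnt M i % p) [i]).flatten)
    (fun i => (show App b (e b i) [i] by simp [App]).pow b _)
  have hZ := App.list b (List.finRange n) (f := fun i => z φ b i ^ (cnt M i / p))
    (g := fun i => (List.replicate (cnt M i / p) (List.replicate p i)).flatten) (fun i => (z_app φ b i).pow b _)
  have h := hA.mul b hZ
  rw [← Zl_coe] at h
  simp only [List.flatten_replicate_singleton, List.flatten_replicate_replicate] at h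
  have hc : toSL (lcnt ((List.finRange n).flatMap (fun i => List.replicate (cnt M i % p) i) ++
      (List.finRange n).flatMap fun i => List.replicate (cnt M i / p * p) i)) = M := by
    conv_rhs => rw [← toSL_cnt M]
    congr 1
    funext i
    rw [lcnt, List.count_append, count_flatMap, count_flatMap, Nat.mod_add_div']
  have h1 := h.approx b
  rwa [hc, show ((List.finRange n).flatMap (fun i => List.replicate (cnt M i % p) i) ++
      (List.finRange n).flatMap fun i => List.replicate (cnt M i / p * p) i).length = M.1.length by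
    conv_rhs => rw [← hc]
    exact (length_toSL _).symm] at h1

/-- `W` as a basis. -/
def Wb : Module.Basis (PBW.SL (Fin n)) k U :=
  Module.Basis.ofRepr (LinearEquiv.ofBijective (Finsupp.linearCombination k (W φ b))
    (bijective_of_triangular b _ (W_app φ b))).symm

theorem Wb_apply (M : PBW.SL (Fin n)) : Wb φ b M = W φ b M := by simp [Wb]

/-- The monomials having a factor `z`. -/
def J : Submodule k U := Submodule.span k {x | ∃ M : PBW.SL (Fin n), (∃ i, p ≤ cnt M i) ∧ x = W φ b M}

theorem z_mul_W (i : Fin n) (M : PBW.SL (Fin n)) :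
    z φ b i * W φ b M = W φ b (toSL (cnt M + Pi.single i p)) := by
  have hm : (fun j => cnt (toSL (cnt M + Pi.single i p)) j % p) = fun j => cnt M j % p := by
    funext j
    rw [cnt_toSL, Pi.add_apply]
    rcases eq_or_ne j i with rfl | h <;> simp_all
  have hd : (fun j => cnt (toSL (cnt M + Pi.single i p)) j / p) =
      (fun j => cnt M j / p) + Pi.single i 1 := by
    funext j
    rw [cnt_toSL, Pi.add_apply, Pi.add_apply]
    rcases eq_or_ne j i with rfl | h <;> simp_all [Nat.add_div_right _ hp.out.pos]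
  rw [W, W, hm, hd, Zl_add_single, ← mul_assoc, ← Subalgebra.mem_center_iff.1 (z_mem_center φ b i), mul_assoc]

theorem z_mul_mem (i : Fin n) (x : U) : z φ b i * x ∈ J φ b := by
  induction (Wb φ b).span_eq.ge (Submodule.mem_top (x := x)) using Submodule.span_induction with
  | mem y hy =>
    obtain ⟨M, rfl⟩ := hy
    rw [Wb_apply, z_mul_W]
    exact Submodule.subset_span ⟨_, ⟨i, by rw [cnt_toSL]; simp⟩, rfl⟩
  | zero => rw [mul_zero]; exact zero_mem _
  | add x y _ _ hx hy => rw [mul_add]; exact add_mem hx hy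
  | smul c x _ hx => rw [mul_smul_comm]; exact Submodule.smul_mem _ c hx

theorem exists_z_factor {M : PBW.SL (Fin n)} {i : Fin n} (h : p ≤ cnt M i) :
    ∃ N, W φ b M = z φ b i * W φ b N := by
  refine ⟨toSL (cnt M - Pi.single i p), ?_⟩
  rw [z_mul_W, cnt_toSL]
  congr 1
  refine sl_ext ?_
  rw [cnt_toSL]
  funext j
  rcases eq_or_ne j i with rfl | hj
  · simp [Nat.sub_add_cancel h]
  · simp [hj]

theorem mul_mem_J (u : U) {x : U} (hx : x ∈ J φ b) : u * x ∈ J φ b := by
  induction hx using Submodule.span_induction with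
  | mem y hy =>
    obtain ⟨M, ⟨i, hi⟩, rfl⟩ := hy
    obtain ⟨N, hN⟩ := exists_z_factor φ b hi
    rw [hN, ← mul_assoc, Subalgebra.mem_center_iff.1 (z_mem_center φ b i) u, mul_assoc]
    exact z_mul_mem φ b i _
  | zero => rw [mul_zero]; exact zero_mem _
  | add x y _ _ hx hy => rw [mul_add]; exact add_mem hx hy
  | smul c x _ hx => rw [mul_smul_comm]; exact Submodule.smul_mem _ c hx

/-- Left multiplication on `U ⧸ J`. -/
def rho : U →ₐ[k] Module.End k (U ⧸ J φ b) :=
  AlgHom.ofLinearMap
    { toFun := fun u => Submodule.mapQ _ _ (LinearMap.mulLeft k u) fun _ hx => mul_mem_J φ b u hx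
      map_add' := fun u v => Submodule.linearMap_qext _ (LinearMap.ext fun x =>
        congrArg Submodule.Quotient.mk (add_mul u v x))
      map_smul' := fun c u => Submodule.linearMap_qext _ (LinearMap.ext fun x =>
        congrArg Submodule.Quotient.mk (smul_mul_assoc c u x)) }
    (Submodule.linearMap_qext _ (LinearMap.ext fun x => congrArg Submodule.Quotient.mk (one_mul x)))
    fun u v => Submodule.linearMap_qext _ (LinearMap.ext fun x => congrArg Submodule.Quotient.mk (mul_assoc u v x))

theorem rho_apply (u x : U) : rho φ b u (Submodule.Quotient.mk x) = Submodule.Quotient.mk (u * x) := rfl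

/-- `rho` on the restricted algebra. -/
def urho : UR φ →ₐ[k] Module.End k (U ⧸ J φ b) :=
  lift φ ((rho φ b).toLinearMap ∘ₗ (UniversalEnvelopingAlgebra.ι k : L →ₗ⁅k⁆ U).toLinearMap)
    (fun x y => by
      change rho φ b (UniversalEnvelopingAlgebra.ι k ⁅x, y⁆) = _
      rw [LieHom.map_lie, LieRing.of_associative_ring_bracket, map_sub, map_mul, map_mul]
      rfl)
    (map_pow_of_basis φ b _ (fun x y => by
      change rho φ b (UniversalEnvelopingAlgebra.ι k ⁅x, y⁆) = _
      rw [LieHom.map_lie, LieRing.of_associative_ring_bracket, map_sub, map_mul, map_mul]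
      rfl) fun i => by
      refine LinearMap.ext fun q => ?_
      obtain ⟨x, rfl⟩ := Submodule.Quotient.mk_surjective _ q
      simp only [LinearMap.comp_apply, AlgHom.toLinearMap_apply, ← map_pow]
      rw [rho_apply, rho_apply, Submodule.Quotient.eq, ← sub_mul, ← neg_sub, neg_mul]
      exact neg_mem (z_mul_mem φ b i x))

theorem urho_mkU (u : U) : urho φ b (mkU φ u) = rho φ b u := by
  refine AlgHom.congr_fun (?_ : (urho φ b).comp (mkU φ) = rho φ b) u
  exact UniversalEnvelopingAlgebra.hom_ext k (LieHom.ext fun x => lift_iota φ _ _ _ x)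

/-- The monomials with exponents less than `p`. -/
def mono (c : Fin n → Fin p) : UR φ := ((List.finRange n).map fun i => iota φ (b i) ^ (c i : ℕ)).prod

theorem mono_eq (c : Fin n → Fin p) : mono φ b c = mkU φ (W φ b (toSL fun i => (c i : ℕ))) := by
  have hm : (fun i => cnt (toSL fun i => (c i : ℕ)) i % p) = fun i => (c i : ℕ) := by
    funext i; rw [cnt_toSL, Nat.mod_eq_of_lt (c i).2]
  have hd : (fun i => cnt (toSL fun i => (c i : ℕ)) i / p) = 0 := by
    funext i; rw [cnt_toSL, Nat.div_eq_of_lt (c i).2]; rfl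
  rw [W, hm, hd, show Zl φ b 0 = 1 by simp [Zl], OneMemClass.coe_one, mul_one, Al, map_list_prod, mono, List.map_map]
  refine congrArg List.prod (List.map_congr_left fun i _ => ?_)
  exact (map_pow (mkU φ) _ _).symm

theorem mono_indep : LinearIndependent k (mono φ b) := by
  classical
  let ψ0 : U →ₗ[k] ((Fin n → Fin p) → k) :=
    LinearMap.pi fun c => Finsupp.lapply (toSL fun i => (c i : ℕ)) ∘ₗ (Wb φ b).repr.toLinearMap
  have hψ : J φ b ≤ LinearMap.ker ψ0 := by
    rw [J, Submodule.span_le]
    rintro _ ⟨M, ⟨i, hi⟩, rfl⟩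
    refine funext fun c => ?_
    simp only [ψ0, ← Wb_apply, LinearMap.pi_apply, LinearMap.comp_apply, LinearEquiv.coe_coe,
      Module.Basis.repr_self, Finsupp.lapply_apply, Pi.zero_apply]
    refine Finsupp.single_eq_of_ne fun h => ?_
    rw [← h, cnt_toSL] at hi
    exact absurd hi (not_le.2 (c i).2)
  let Φ : UR φ →ₗ[k] ((Fin n → Fin p) → k) :=
    Submodule.liftQ _ ψ0 hψ ∘ₗ LinearMap.applyₗ (Submodule.Quotient.mk (1 : U)) ∘ₗ (urho φ b).toLinearMap
  refine LinearIndependent.of_comp Φ ?_
  have h : Φ ∘ mono φ b = fun c => Pi.single c 1 := by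
    funext c
    simp only [Φ, Function.comp_apply, LinearMap.comp_apply, AlgHom.toLinearMap_apply,
      LinearMap.applyₗ_apply_apply, mono_eq, urho_mkU, rho_apply, mul_one, Submodule.liftQ_apply]
    funext c'
    simp only [ψ0, ← Wb_apply, LinearMap.pi_apply, LinearMap.comp_apply, LinearEquiv.coe_coe,
      Module.Basis.repr_self, Finsupp.lapply_apply]
    rcases eq_or_ne c' c with rfl | hne
    · simp
    · rw [Pi.single_eq_of_ne hne, Finsupp.single_eq_of_ne]
      intro h
      refine hne (funext fun i => Fin.ext ?_)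
      have := congrFun (congrArg cnt h) i
      rw [cnt_toSL, cnt_toSL] at this
      exact this
  rw [h]
  convert (Pi.basisFun k (Fin n → Fin p)).linearIndependent
  simp [Pi.basisFun_apply]

theorem mkU_z (i : Fin n) : mkU φ (z φ b i) = 0 := by
  rw [z, map_sub, map_pow, sub_eq_zero]
  exact (iota_pow φ (b i)).symm

theorem mono_span : ⊤ ≤ Submodule.span k (Set.range (mono φ b)) := by
  intro x hx0
  clear hx0
  obtain ⟨u, rfl⟩ : ∃ u, mkU φ u = x := RingQuot.mkAlgHom_surjective k (Rel φ) x
  induction (Wb φ b).span_eq.ge (Submodule.mem_top (x := u)) using Submodule.span_induction with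
  | mem y hy =>
    obtain ⟨M, rfl⟩ := hy
    rw [Wb_apply]
    by_cases h : ∃ i, p ≤ cnt M i
    · obtain ⟨i, hi⟩ := h
      obtain ⟨N, hN⟩ := exists_z_factor φ b hi
      rw [hN, map_mul, mkU_z, zero_mul]
      exact zero_mem _
    · simp only [not_exists, not_le] at h
      refine Submodule.subset_span ⟨fun i => ⟨cnt M i, h i⟩, ?_⟩
      rw [mono_eq, toSL_cnt]
  | zero => rw [map_zero]; exact zero_mem _
  | add x y _ _ hx hy => rw [map_add]; exact add_mem hx hy
  | smul c x _ hx => rw [map_smul]; exact Submodule.smul_mem _ c hx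

/-- The basis of restricted monomials. -/
def basis : Module.Basis (Fin n → Fin p) k (UR φ) := Module.Basis.mk (mono_indep φ b) (mono_span φ b)

theorem basis_apply (c : Fin n → Fin p) : basis φ b c = mono φ b c := by rw [basis, Module.Basis.mk_apply]

include b in
theorem iota_injective : Function.Injective (iota φ) := by
  classical
  let s : Fin n → (Fin n → Fin p) := fun i => Pi.single i ⟨1, hp.out.one_lt⟩
  haveI : NeZero p := ⟨hp.out.ne_zero⟩
  have hone : (⟨1, hp.out.one_lt⟩ : Fin p) ≠ 0 := fun h => by simpa using congrArg Fin.val h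
  have hs : Function.Injective s := fun i j h => by
    by_contra hne
    have := congrFun h i
    simp only [s, Pi.single_eq_same, Pi.single_eq_of_ne hne] at this
    exact hone this
  have hb : ∀ i, iota φ (b i) = basis φ b (s i) := fun i => by
    rw [basis_apply, mono,
      List.prod_map_eq_pow_single i _ fun j hj _ => by simp [s, Pi.single_eq_of_ne hj],
      List.count_eq_one_of_mem (List.nodup_finRange n) (List.mem_finRange i)]
    simp [s]
  have hcomp : (basis φ b).repr.toLinearMap ∘ₗ iota φ = Finsupp.lmapDomain k k s ∘ₗ b.repr.toLinearMap :=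
    b.ext fun i => by simp [hb]
  intro x y h
  refine b.repr.injective (Finsupp.mapDomain_injective hs ?_)
  have hx := LinearMap.congr_fun hcomp x
  have hy := LinearMap.congr_fun hcomp y
  simp only [LinearMap.comp_apply, LinearEquiv.coe_coe, Finsupp.lmapDomain_apply] at hx hy
  rw [← hx, ← hy, h]

end Groth.L08.UL
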