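import Groth.Agent.L08.PBW
import Mathlib.Algebra.Algebra.Subalgebra.Basic
import Mathlib.Algebra.BigOperators.Fin
import Mathlib.Tactic.NoncommRing

/-!
# Filtration of the enveloping algebra and triangular changes of the PBW basis
-/

universe u v

noncomputable section

namespace Groth.L08.UL

open PBW

variable {k : Type u} [CommRing k] {L : Type v} [LieRing L] [LieAlgebra k L] {n : ℕ}
  (b : Module.Basis (Fin n) k L)

local notation "U" => UniversalEnvelopingAlgebra k L

/-- The exponents of a sorted list. -/
def cnt (M : SL (Fin n)) : Fin n → ℕ := fun i => M.1.count i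

/-- The sorted list with given exponents. -/
def toSL (c : Fin n → ℕ) : SL (Fin n) :=
  ⟨((List.finRange n).flatMap fun i => List.replicate (c i) i).insertionSort (· ≤ ·),
    List.Pairwise.sortedLE (List.pairwise_insertionSort _ _)⟩

theorem count_flatMap (c : Fin n → ℕ) (i : Fin n) :
    ((List.finRange n).flatMap fun j => List.replicate (c j) j).count i = c i := by
  rw [List.count_flatMap, ← Fin.sum_univ_def, Finset.sum_eq_single i]
  · simp
  · intro j _ hj; simp [List.count_replicate, hj]
  · simp

theorem cnt_toSL (c : Fin n → ℕ) : cnt (toSL c) = c := by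
  funext i
  rw [cnt, toSL, (List.perm_insertionSort _ _).count_eq, count_flatMap]

theorem sl_ext {M N : SL (Fin n)} (h : cnt M = cnt N) : M = N :=
  Subtype.ext (List.Perm.eq_of_sortedLE M.2 N.2 (List.perm_iff_count.2 fun i => congrFun h i))

theorem toSL_cnt (M : SL (Fin n)) : toSL (cnt M) = M := sl_ext (cnt_toSL _)

theorem toSL_val (c : Fin n → ℕ) :
    (toSL c).1 = (List.finRange n).flatMap fun i => List.replicate (c i) i := by
  have hs : ((List.finRange n).flatMap fun i => List.replicate (c i) i).Pairwise (· ≤ ·) := by
    rw [List.pairwise_flatMap]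
    refine ⟨fun i _ => List.pairwise_replicate.2 (Or.inr le_rfl),
      (List.pairwise_lt_finRange n).imp fun {i j} hij x hx y hy => ?_⟩
    rw [List.mem_replicate] at hx hy
    rw [hx.2, hy.2]
    exact hij.le
  exact hs.insertionSort_eq

/-- The exponents of any list. -/
def lcnt (l : List (Fin n)) : Fin n → ℕ := fun i => l.count i

theorem ins_toSL (i : Fin n) (l : List (Fin n)) : ins i (toSL (lcnt l)) = toSL (lcnt (i :: l)) := by
  refine sl_ext ?_
  rw [cnt_toSL]
  funext j
  rw [cnt, ins, (List.perm_orderedInsert _ _ _).count_eq, List.count_cons,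
    show (toSL (lcnt l)).1.count j = l.count j from congrFun (cnt_toSL (lcnt l)) j, lcnt, List.count_cons]

theorem length_toSL (l : List (Fin n)) : (toSL (lcnt l)).1.length = l.length := by
  refine List.Perm.length_eq (List.perm_iff_count.2 fun i => ?_)
  exact congrFun (cnt_toSL (lcnt l)) i

/-- The images of the basis elements. -/
def e (i : Fin n) : U := UniversalEnvelopingAlgebra.ι k (b i)

/-- The span of monomials of length less than `d`. -/
def G (d : ℕ) : Submodule k U := (Finsupp.supported k k {M : SL (Fin n) | M.1.length < d}).map (mon b)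

theorem G_mono {d d' : ℕ} (h : d ≤ d') : G b d ≤ G b d' :=
  Submodule.map_mono (Finsupp.supported_mono fun _ (hM : _ < d) => hM.trans_le h)

theorem mon_mem_G {d : ℕ} {M : SL (Fin n)} (h : M.1.length < d) : mon b (Finsupp.single M 1) ∈ G b d :=
  Submodule.mem_map_of_mem (Finsupp.single_mem_supported k 1 h)

theorem G_induction {d : ℕ} {P : U → Prop} (hz : P 0) (ha : ∀ x y, P x → P y → P (x + y))
    (hs : ∀ (a : k) x, P x → P (a • x)) (h : ∀ M : SL (Fin n), M.1.length < d → P (mon b (Finsupp.single M 1)))
    {x : U} (hx : x ∈ G b d) : P x := by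
  rw [G, Finsupp.supported_eq_span_single, Submodule.map_span] at hx
  induction hx using Submodule.span_induction with
  | mem y hy => obtain ⟨_, ⟨M, hM, rfl⟩, rfl⟩ := hy; exact h M hM
  | zero => exact hz
  | add x y _ _ hx hy => exact ha x y hx hy
  | smul a x _ hx => exact hs a x hx

theorem e_mul_mon (i : Fin n) (M : SL (Fin n)) :
    e b i * mon b (Finsupp.single M 1) - mon b (Finsupp.single (ins i M) 1) ∈ G b (M.1.length + 1) := by
  rw [e, ← mon_op, op_single, ← map_sub]
  exact Submodule.mem_map_of_mem (Finsupp.supported_mono (fun _ => Nat.lt_succ_of_le) (g_mem b i M))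

theorem e_mul_mem {d : ℕ} (i : Fin n) {x : U} (hx : x ∈ G b d) : e b i * x ∈ G b (d + 1) := by
  refine G_induction b (P := fun x => e b i * x ∈ G b (d + 1)) (by simp) (fun x y hx hy => ?_) (fun a x hx => ?_)
    (fun M hM => ?_) hx
  · rw [mul_add]; exact add_mem hx hy
  · rw [mul_smul_comm]; exact Submodule.smul_mem _ a hx
  · rw [← sub_add_cancel (e b i * mon b (Finsupp.single M 1)) (mon b (Finsupp.single (ins i M) 1))]
    exact add_mem (G_mono b (by omega) (e_mul_mon b i M)) (mon_mem_G b (by rw [length_ins]; omega))

theorem prod_mul_mem (l : List (Fin n)) {d : ℕ} {y : U} (hy : y ∈ G b d) :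
    (l.map (e b)).prod * y ∈ G b (d + l.length) := by
  induction l with
  | nil => simpa using hy
  | cons i l ih =>
    rw [List.map_cons, List.prod_cons, mul_assoc, List.length_cons, ← Nat.add_assoc]
    exact e_mul_mem b i ih

theorem mul_mem {d d' : ℕ} {x y : U} (hx : x ∈ G b d) (hy : y ∈ G b (d' + 1)) : x * y ∈ G b (d + d') := by
  refine G_induction b (P := fun x => x * y ∈ G b (d + d')) (by simp) (fun x z hx hz => ?_) (fun a x hx => ?_)
    (fun M hM => ?_) hx
  · rw [add_mul]; exact add_mem hx hz
  · rw [smul_mul_assoc]; exact Submodule.smul_mem _ a hx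
  · rw [mon_single]
    exact G_mono b (by omega) (prod_mul_mem b M.1 hy)

theorem prod_approx (l : List (Fin n)) :
    (l.map (e b)).prod - mon b (Finsupp.single (toSL (lcnt l)) 1) ∈ G b l.length := by
  induction l with
  | nil =>
    have : (toSL (lcnt ([] : List (Fin n)))).1 = [] := List.length_eq_zero_iff.1 (length_toSL [])
    simp [mon_single, this]
  | cons i l ih =>
    have h1 := e_mul_mem b i ih
    have h2 := e_mul_mon b i (toSL (lcnt l))
    rw [ins_toSL, length_toSL] at h2
    rw [List.map_cons, List.prod_cons, List.length_cons]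
    have := add_mem h1 h2
    rwa [mul_sub, sub_add_sub_cancel] at this

theorem prod_mem (l : List (Fin n)) : (l.map (e b)).prod ∈ G b (l.length + 1) := by
  rw [← sub_add_cancel (l.map (e b)).prod (mon b (Finsupp.single (toSL (lcnt l)) 1))]
  exact add_mem (G_mono b (Nat.le_succ _) (prod_approx b l)) (mon_mem_G b (by rw [length_toSL]; omega))

/-- `x` agrees with the monomial `l` up to shorter ones. -/
def App (x : U) (l : List (Fin n)) : Prop := x - (l.map (e b)).prod ∈ G b l.length

theorem App.refl (l : List (Fin n)) : App b (l.map (e b)).prod l := by simp [App]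

theorem App.one : App b 1 [] := by simp [App]

theorem App.mul {x y : U} {l m : List (Fin n)} (hx : App b x l) (hy : App b y m) : App b (x * y) (l ++ m) := by
  have hy' : y ∈ G b (m.length + 1) := by
    rw [← sub_add_cancel y (m.map (e b)).prod]
    exact add_mem (G_mono b (Nat.le_succ _) hy) (prod_mem b m)
  have h1 := mul_mem b hx hy'
  have h2 := prod_mul_mem b l hy
  rw [App, List.map_append, List.prod_append, List.length_append]
  have := add_mem h1 (G_mono b (show m.length + l.length ≤ l.length + m.length by omega) h2)
  rwa [show (x - (l.map (e b)).prod) * y + (l.map (e b)).prod * (y - (m.map (e b)).prod) =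
    x * y - (l.map (e b)).prod * (m.map (e b)).prod by noncomm_ring] at this

theorem App.pow {x : U} {l : List (Fin n)} (hx : App b x l) (m : ℕ) :
    App b (x ^ m) (List.replicate m l).flatten := by
  induction m with
  | zero => simpa using App.one b
  | succ m ih =>
    rw [pow_succ', List.replicate_succ, List.flatten_cons]
    exact hx.mul b ih

theorem App.list {α : Type} (s : List α) {f : α → U} {g : α → List (Fin n)} (h : ∀ a, App b (f a) (g a)) :
    App b (s.map f).prod (s.flatMap g) := by
  induction s with
  | nil => simpa using App.one b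
  | cons a s ih =>
    rw [List.map_cons, List.prod_cons, List.flatMap_cons]
    exact (h a).mul b ih

theorem App.approx {x : U} {l : List (Fin n)} (hx : App b x l) :
    x - mon b (Finsupp.single (toSL (lcnt l)) 1) ∈ G b l.length := by
  have := add_mem hx (prod_approx b l)
  rwa [sub_add_sub_cancel] at this

/-- A family agreeing with the monomials up to shorter ones is a basis. -/
theorem bijective_of_triangular (W : SL (Fin n) → U)
    (hW : ∀ M, W M - mon b (Finsupp.single M 1) ∈ G b M.1.length) :
    Function.Bijective (Finsupp.linearCombination k W) := by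
  have hWr : ∀ M, (PBW.basis b).repr (W M) - Finsupp.single M 1 ∈
      Finsupp.supported k k {N : SL (Fin n) | N.1.length < M.1.length} := fun M => by
    have hr : ∀ t, (PBW.basis b).repr (mon b t) = t := fun t => (PBW.basis b).repr.apply_symm_apply t
    obtain ⟨t, ht, hte⟩ := hW M
    rw [← hr (Finsupp.single M 1), ← map_sub, ← hte, hr]
    exact ht
  let f : T k (Fin n) →ₗ[k] T k (Fin n) := (PBW.basis b).repr.toLinearMap ∘ₗ Finsupp.linearCombination k W
  have hf : ∀ M, f (Finsupp.single M 1) = (PBW.basis b).repr (W M) := fun M => by simp [f]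
  suffices h : Function.Bijective f by
    have := (PBW.basis b).repr.symm.bijective.comp h
    rwa [show ⇑(PBW.basis b).repr.symm ∘ ⇑f = ⇑(Finsupp.linearCombination k W) from
      funext fun t => (PBW.basis b).repr.symm_apply_apply _] at this
  constructor
  · rw [injective_iff_map_eq_zero]
    intro x hx
    by_contra hne
    obtain ⟨M, hM, hmax⟩ := x.support.exists_max_image (fun N => N.1.length)
      (Finsupp.support_nonempty_iff.2 hne)
    have h0 := congrArg (fun t => t M) hx
    rw [← Finsupp.sum_single x] at h0
    simp only [map_finsuppSum, Finsupp.sum_apply, Finsupp.coe_zero, Pi.zero_apply] at h0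
    rw [Finsupp.sum, Finset.sum_eq_single M] at h0
    · refine Finsupp.mem_support_iff.1 hM ?_
      rw [show Finsupp.single M (x M) = x M • Finsupp.single M 1 by simp, map_smul, hf, Finsupp.smul_apply,
        ← sub_add_cancel ((PBW.basis b).repr (W M)) (Finsupp.single M 1), Finsupp.add_apply,
        Finsupp.single_eq_same, (Finsupp.mem_supported' k _).1 (hWr M) M (fun h => lt_irrefl M.1.length h), zero_add, smul_eq_mul,
        mul_one] at h0
      exact h0
    · intro N hN hne'
      rw [show Finsupp.single N (x N) = x N • Finsupp.single N 1 by simp, map_smul, hf, Finsupp.smul_apply,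
        ← sub_add_cancel ((PBW.basis b).repr (W N)) (Finsupp.single N 1), Finsupp.add_apply,
        Finsupp.single_eq_of_ne hne'.symm,
        (Finsupp.mem_supported' k _).1 (hWr N) M (fun h => not_lt.2 (hmax N hN) h), zero_add, smul_zero]
    · exact fun h => absurd hM h
  · have key : ∀ d (M : SL (Fin n)), M.1.length < d → Finsupp.single M 1 ∈ LinearMap.range f := by
      intro d
      induction d with
      | zero => intro M hM; exact absurd hM (Nat.not_lt_zero _)
      | succ d ih =>
        intro M hM
        have hle : Finsupp.supported k k {N : SL (Fin n) | N.1.length < M.1.length} ≤ LinearMap.range f := by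
          rw [Finsupp.supported_eq_span_single, Submodule.span_le]
          rintro _ ⟨N, hN, rfl⟩
          exact ih N (Nat.lt_of_lt_of_le hN (Nat.lt_succ_iff.1 hM))
        rw [← sub_sub_cancel ((PBW.basis b).repr (W M)) (Finsupp.single M 1)]
        exact sub_mem ⟨_, hf M⟩ (hle (hWr M))
    intro t
    induction t using Finsupp.induction_linear with
    | zero => exact ⟨0, map_zero f⟩
    | add s t hs ht => obtain ⟨a, rfl⟩ := hs; obtain ⟨c, rfl⟩ := ht; exact ⟨a + c, map_add f a c⟩
    | single M a =>
      obtain ⟨x, hx⟩ := key _ M (Nat.lt_succ_self _)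
      exact ⟨a • x, by rw [map_smul, hx]; simp⟩

end Groth.L08.UL
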